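import Cfsg.Prelude.Def_DStar
import Cfsg.Prelude.Def_PLocal
import Mathlib.GroupTheory.Sylow
import Mathlib.GroupTheory.Nilpotent
import Mathlib.GroupTheory.Subgroup.Centralizer
import Mathlib.Tactic.Group

/-! D*(S): basic properties, and Thompson replacement. -/
set_option autoImplicit false

namespace Cfsg.Agent.DStar

open Subgroup
open scoped Pointwise commutatorElement

universe u

variable {S : Type*} [Group S]

theorem comm_of_isMulCommutative {A : Subgroup S} (hA : IsMulCommutative A) {a b : S}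
    (ha : a ∈ A) (hb : b ∈ A) : a * b = b * a :=
  congrArg Subtype.val (hA.is_comm.comm ⟨a, ha⟩ ⟨b, hb⟩)

theorem isMulCommutative_of_forall {A : Subgroup S}
    (h : ∀ a ∈ A, ∀ b ∈ A, a * b = b * a) : IsMulCommutative A := by
  rw [← le_centralizer_iff_isMulCommutative]
  intro a ha
  exact mem_centralizer_iff.mpr fun b hb => h b hb a ha

theorem commute_of_comm_eq_one {a b : S} (h : ⁅a, b⁆ = 1) : a * b = b * a :=
  commutatorElement_eq_one_iff_mul_comm.mp h

/-- A criterion for class at most two on generators. -/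
theorem triple_eq_bot {s : Set S} {C : Subgroup S} (hC : ∀ c ∈ C, ∀ k ∈ s, c * k = k * c)
    (hs : ∀ a ∈ s, ∀ b ∈ s, ⁅a, b⁆ ∈ C) :
    ⁅⁅closure s, closure s⁆, closure s⁆ = ⊥ := by
  have hcen : C ≤ centralizer (closure s : Set S) := by
    rw [centralizer_closure]
    intro c hc
    exact mem_centralizer_iff.mpr fun k hk => (hC c hc k hk).symm
  have hcm : ∀ c ∈ C, ∀ k ∈ closure s, k * c * k⁻¹ = c := by
    intro c hc k hk
    rw [mem_centralizer_iff.mp (hcen hc) k hk, mul_inv_cancel_right]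
  have hl : ∀ b ∈ s, ∀ a ∈ closure s, ⁅a, b⁆ ∈ C := by
    intro b hb a ha
    induction ha using closure_induction with
    | mem x hx => exact hs x hx b hb
    | one => simp
    | mul x y hx hy h1 h2 =>
      rw [commutatorElement_mul_left_eq_conj_mul, hcm _ h2 x hx]
      exact C.mul_mem h2 h1
    | inv x hx h =>
      have e : ⁅x⁻¹, b⁆ = x⁻¹ * ⁅x, b⁆⁻¹ * x⁻¹⁻¹ := by group
      rw [e, hcm _ (C.inv_mem h) _ (inv_mem hx)]
      exact C.inv_mem h
  have hall : ∀ b ∈ closure s, ∀ a ∈ closure s, ⁅a, b⁆ ∈ C := by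
    intro b hb
    induction hb using closure_induction with
    | mem x hx => exact hl x hx
    | one => simp
    | mul x y hx hy h1 h2 =>
      intro a ha
      rw [commutatorElement_mul_right_eq_mul_conj, mul_assoc _ _ x⁻¹, mul_assoc, ← mul_assoc x, hcm _ (h2 a ha) x hx]
      exact C.mul_mem (h1 a ha) (h2 a ha)
    | inv x hx h =>
      intro a ha
      have e : ⁅a, x⁻¹⁆ = x⁻¹ * ⁅a, x⁆⁻¹ * x⁻¹⁻¹ := by group
      rw [e, hcm _ (C.inv_mem (h a ha)) _ (inv_mem hx)]
      exact C.inv_mem (h a ha)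
  rw [eq_bot_iff, commutator_le]
  intro x hx y hy
  have hxC : x ∈ C := (commutator_le.mpr (fun a ha b hb => hall b hb a ha)) hx
  rw [mem_bot, commutatorElement_eq_one_iff_mul_comm]
  exact (mem_centralizer_iff.mp (hcen hxC) y hy).symm

/-- Membership in the family of `D*`, relative to a subgroup `T`. -/
def Mem (T A : Subgroup S) : Prop :=
  A ≤ T ∧ IsMulCommutative A ∧ ∀ x ∈ T,
    ⁅⁅A ⊔ zpowers x, A ⊔ zpowers x⁆, A ⊔ zpowers x⁆ = ⊥ → ∀ a ∈ A, a * x = x * a

theorem mem_top_iff {A : Subgroup S} : Mem ⊤ A ↔ A ∈ dStarFamily S := by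
  simp [Mem, dStarFamily]

theorem Mem.mono {T T' A : Subgroup S} (h : Mem T A) (hA : A ≤ T') (hT : T' ≤ T) : Mem T' A :=
  ⟨hA, h.2.1, fun x hx => h.2.2 x (hT hx)⟩

/-- The working criterion: a member is centralized by `x` if the commutators with `x` lie in it and
commute with `x`. -/
theorem Mem.commute {T A : Subgroup S} (h : Mem T A) {x : S} (hx : x ∈ T)
    (h1 : ∀ a ∈ A, ⁅a, x⁆ ∈ A) (h2 : ∀ a ∈ A, ⁅a, x⁆ * x = x * ⁅a, x⁆) :
    ∀ a ∈ A, a * x = x * a := by
  apply h.2.2 x hx
  have e : A ⊔ zpowers x = closure ((A : Set S) ∪ {x}) := by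
    rw [Subgroup.closure_union, closure_eq, zpowers_eq_closure]
  rw [e]
  refine triple_eq_bot (C := A ⊓ centralizer {x}) ?_ ?_
  · rintro c ⟨hcA, hcx⟩ k (hk | hk)
    · exact comm_of_isMulCommutative h.2.1 hcA hk
    · obtain rfl : k = x := hk
      exact (mem_centralizer_singleton_iff.mp hcx)
  · rintro a (ha | ha) b (hb | hb)
    · rw [commutatorElement_eq_one_iff_mul_comm.mpr (comm_of_isMulCommutative h.2.1 ha hb)]
      exact one_mem _
    · obtain rfl : b = x := hb
      exact ⟨h1 a ha, mem_centralizer_singleton_iff.mpr (h2 a ha)⟩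
    · obtain rfl : a = x := ha
      rw [← commutatorElement_inv]
      exact inv_mem ⟨h1 b hb, mem_centralizer_singleton_iff.mpr (h2 b hb)⟩
    · obtain rfl : a = x := ha
      obtain rfl : b = a := hb
      simp

theorem map_triple {S' : Type*} [Group S'] (f : S →* S') (A : Subgroup S) (x : S) :
    (⁅⁅A ⊔ zpowers x, A ⊔ zpowers x⁆, A ⊔ zpowers x⁆).map f =
      ⁅⁅A.map f ⊔ zpowers (f x), A.map f ⊔ zpowers (f x)⁆, A.map f ⊔ zpowers (f x)⁆ := by
  simp [map_commutator, Subgroup.map_sup, MonoidHom.map_zpowers]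

/-- Transport along an injective homomorphism. -/
theorem mem_map_iff {S' : Type*} [Group S'] (f : S →* S') (hf : Function.Injective f)
    (T A : Subgroup S) : Mem (T.map f) (A.map f) ↔ Mem T A := by
  constructor
  · rintro ⟨h1, h2, h3⟩
    refine ⟨(map_le_map_iff_of_injective hf).mp h1, ?_, ?_⟩
    · exact isMulCommutative_of_forall fun a ha b hb => hf (by
        simpa using comm_of_isMulCommutative h2 (mem_map_of_mem f ha) (mem_map_of_mem f hb))
    · intro x hx hc a ha
      apply hf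
      rw [map_mul, map_mul]
      refine h3 (f x) (mem_map_of_mem f hx) ?_ (f a) (mem_map_of_mem f ha)
      rw [← map_triple, hc, Subgroup.map_bot]
  · rintro ⟨h1, h2, h3⟩
    refine ⟨map_mono h1, ?_, ?_⟩
    · refine isMulCommutative_of_forall ?_
      rintro _ ⟨a, ha, rfl⟩ _ ⟨b, hb, rfl⟩
      rw [← map_mul, comm_of_isMulCommutative h2 ha hb, map_mul]
    · rintro _ ⟨x, hx, rfl⟩ hc _ ⟨a, ha, rfl⟩
      rw [← map_mul, h3 x hx ?_ a ha, map_mul]
      rw [← map_triple, ← Subgroup.map_bot f] at hc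
      exact Subgroup.map_injective hf hc

theorem Mem.conj {T A : Subgroup S} (h : Mem T A) (g : S) :
    Mem (T.map (MulAut.conj g).toMonoidHom) (A.map (MulAut.conj g).toMonoidHom) :=
  (mem_map_iff _ (MulAut.conj g).injective T A).mpr h

theorem mem_family_map {S' : Type*} [Group S'] (e : S ≃* S') {A : Subgroup S}
    (h : A ∈ dStarFamily S) : A.map e.toMonoidHom ∈ dStarFamily S' := by
  rw [← mem_top_iff] at h ⊢
  have := (mem_map_iff e.toMonoidHom e.injective ⊤ A).mpr h
  rwa [← MonoidHom.range_eq_map, MonoidHom.range_eq_top.mpr e.surjective] at this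

theorem mem_subgroupOf {T A : Subgroup S} (hA : A ≤ T) :
    A.subgroupOf T ∈ dStarFamily T ↔ Mem T A := by
  rw [← mem_top_iff, ← mem_map_iff T.subtype T.subtype_injective, ← MonoidHom.range_eq_map,
    Subgroup.range_subtype, subgroupOf_map_subtype, inf_of_le_left hA]

theorem normal_coatom_ge [Finite S] {p : ℕ} [Fact p.Prime] (hS : IsPGroup p S) {B : Subgroup S}
    (hB : B ≠ ⊤) : ∃ M : Subgroup S, M ≠ ⊤ ∧ M.Normal ∧ B ≤ M := by
  haveI : Group.IsNilpotent S := hS.isNilpotent
  obtain ⟨M, hM, hBM⟩ := (eq_top_or_exists_le_coatom B).resolve_left hB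
  exact ⟨M, hM.1, Group.normalizerCondition_of_isNilpotent.normal_of_coatom M hM, hBM⟩

/-- Members of the family commute with each other. -/
theorem commute_members : ∀ (n : ℕ) {S : Type u} [Group S] [Finite S] {p : ℕ} [Fact p.Prime],
    IsPGroup p S → Nat.card S = n → ∀ A B : Subgroup S, Mem ⊤ A → Mem ⊤ B →
      ∀ a ∈ A, ∀ b ∈ B, a * b = b * a := by
  intro n
  induction n using Nat.strong_induction_on with
  | _ n ih =>
  intro S _ _ p _ hS hn A B hA hB a ha b hb
  have sub : ∀ T : Subgroup S, T ≠ ⊤ → ∀ A B : Subgroup S, Mem ⊤ A → Mem ⊤ B → A ≤ T → B ≤ T →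
      ∀ a ∈ A, ∀ b ∈ B, a * b = b * a := by
    intro T hT A B hA hB hAT hBT a ha b hb
    have hcard : Nat.card T < n := by
      rw [← hn]
      refine lt_of_le_of_ne (Subgroup.card_le_card_group T) ?_
      exact fun h => hT ((Subgroup.card_eq_iff_eq_top T).mp h)
    have := ih _ hcard (hS.to_subgroup T) rfl (A.subgroupOf T) (B.subgroupOf T)
      (mem_top_iff.mpr ((mem_subgroupOf hAT).mpr (hA.mono hAT le_top)))
      (mem_top_iff.mpr ((mem_subgroupOf hBT).mpr (hB.mono hBT le_top)))
      ⟨a, hAT ha⟩ ha ⟨b, hBT hb⟩ hb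
    exact congrArg Subtype.val this
  by_cases hT : A ⊔ B = ⊤
  swap
  · exact sub _ hT A B hA hB le_sup_left le_sup_right a ha b hb
  by_cases hBtop : B = ⊤
  · exact comm_of_isMulCommutative hB.2.1 (hBtop ▸ mem_top a) hb
  by_cases hAtop : A = ⊤
  · exact comm_of_isMulCommutative hA.2.1 ha (hAtop ▸ mem_top b)
  have key : ∀ X : Subgroup S, Mem ⊤ X → X ≠ ⊤ →
      ∀ x ∈ normalClosure (X : Set S), ∀ y ∈ normalClosure (X : Set S), x * y = y * x := by
    intro X hX hXtop
    obtain ⟨M, hM, hMn, hXM⟩ := normal_coatom_ge hS hXtop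
    have : IsMulCommutative (normalClosure (X : Set S)) := by
      refine isMulCommutative_closure ?_
      intro x hx y hy
      obtain ⟨x0, hx0, hxc⟩ := Group.mem_conjugatesOfSet_iff.mp hx
      obtain ⟨y0, hy0, hyc⟩ := Group.mem_conjugatesOfSet_iff.mp hy
      obtain ⟨g, rfl⟩ := isConj_iff.mp hxc
      obtain ⟨k, rfl⟩ := isConj_iff.mp hyc
      have cl : ∀ g : S, X.map (MulAut.conj g).toMonoidHom ≤ M := by
        rintro g _ ⟨z, hz, rfl⟩
        exact hMn.conj_mem z (hXM hz) g
      have mk : ∀ g : S, Mem ⊤ (X.map (MulAut.conj g).toMonoidHom) := by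
        intro g
        have := hX.conj g
        exact ⟨le_top, this.2.1, fun z _ => this.2.2 z ⟨g⁻¹ * z * g, mem_top _, by simp [mul_assoc]⟩⟩
      exact sub M hM _ _ (mk g) (mk k) (cl g) (cl k) _ ⟨x0, hx0, rfl⟩ _ ⟨y0, hy0, rfl⟩
    exact fun x hx y hy => comm_of_isMulCommutative this hx hy
  apply hA.2.2 b (mem_top b) ?_ a ha
  have htop : closure ((A : Set S) ∪ B) = ⊤ := by
    rw [Subgroup.closure_union, closure_eq, closure_eq, hT]
  have h3 := triple_eq_bot (s := (A : Set S) ∪ B)
    (C := normalClosure (A : Set S) ⊓ normalClosure (B : Set S)) ?_ ?_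
  · rw [htop] at h3
    rw [eq_bot_iff, ← h3]
    exact commutator_mono (commutator_mono le_top le_top) le_top
  · rintro c ⟨hcA, hcB⟩ k (hk | hk)
    · exact key A hA hAtop c hcA k (subset_normalClosure hk)
    · exact key B hB hBtop c hcB k (subset_normalClosure hk)
  · have mixed : ∀ x ∈ A, ∀ y ∈ B, ⁅x, y⁆ ∈ normalClosure (A : Set S) ⊓ normalClosure (B : Set S) := by
      intro x hx y hy
      constructor
      · have e : ⁅x, y⁆ = x * (y * x⁻¹ * y⁻¹) := by group
        rw [e]
        exact mul_mem (subset_normalClosure hx)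
          (normalClosure_normal.conj_mem _ (subset_normalClosure (inv_mem hx)) y)
      · exact mul_mem (normalClosure_normal.conj_mem _ (subset_normalClosure hy) x)
          (Subgroup.inv_mem (normalClosure (B : Set S)) (subset_normalClosure hy))
    rintro x (hx | hx) y (hy | hy)
    · rw [commutatorElement_eq_one_iff_mul_comm.mpr (comm_of_isMulCommutative hA.2.1 hx hy)]
      exact one_mem _
    · exact mixed x hx y hy
    · rw [← commutatorElement_inv]
      exact inv_mem (mixed y hy x hx)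
    · rw [commutatorElement_eq_one_iff_mul_comm.mpr (comm_of_isMulCommutative hB.2.1 hx hy)]
      exact one_mem _

theorem dStar_isMulCommutative [Finite S] {p : ℕ} [Fact p.Prime] (hS : IsPGroup p S) :
    IsMulCommutative (dStar S) := by
  rw [← le_centralizer_iff_isMulCommutative]
  refine sSup_le fun A hA => ?_
  rw [le_centralizer_iff]
  refine sSup_le fun B hB b hb => ?_
  exact mem_centralizer_iff.mpr fun a ha =>
    commute_members _ hS rfl A B (mem_top_iff.mpr hA) (mem_top_iff.mpr hB) a ha b hb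

theorem dStar_mem_family [Finite S] {p : ℕ} [Fact p.Prime] (hS : IsPGroup p S) :
    dStar S ∈ dStarFamily S := by
  refine ⟨dStar_isMulCommutative hS, fun x hx a ha => ?_⟩
  suffices h : dStar S ≤ centralizer {x} by exact (mem_centralizer_singleton_iff.mp (h ha))
  refine sSup_le fun A hA b hb => mem_centralizer_singleton_iff.mpr (hA.2 x ?_ b hb)
  rw [eq_bot_iff, ← hx]
  have : A ⊔ zpowers x ≤ dStar S ⊔ zpowers x := sup_le_sup_right (le_sSup hA) _
  exact commutator_mono (commutator_mono this this) this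

theorem dStar_map {S' : Type*} [Group S'] (e : S ≃* S') :
    (dStar S).map e.toMonoidHom = dStar S' := by
  apply le_antisymm
  · rw [map_le_iff_le_comap]
    exact sSup_le fun A hA => map_le_iff_le_comap.mp (le_sSup (mem_family_map e hA))
  · refine sSup_le fun A hA => ?_
    have h := mem_family_map e.symm hA
    intro a ha
    exact ⟨e.symm a, le_sSup (s := dStarFamily S) h ⟨a, ha, rfl⟩, e.apply_symm_apply a⟩

theorem dStar_characteristic : (dStar S).Characteristic :=
  characteristic_iff_map_eq.mpr fun e => dStar_map e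

theorem center_le_dStar : center S ≤ dStar S := by
  refine le_sSup ⟨isMulCommutative_of_forall fun a ha b _ => (mem_center_iff.mp ha b).symm,
    fun x _ a ha => (mem_center_iff.mp ha x).symm⟩

/-- Thompson's replacement: one element `x` whose commutators with the abelian subgroup `A` lie in an
abelian subgroup `D`. -/
theorem replacement [Finite S] (A D : Subgroup S) (hA : IsMulCommutative A) (hD : IsMulCommutative D)
    (x : S) (hxA : ∀ a ∈ A, ⁅x, a⁆ ∈ D) :
    ∃ A' : Subgroup S, IsMulCommutative A' ∧ Nat.card A ≤ Nat.card A' ∧ A ⊓ D ≤ A' ⊓ D ∧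
      A' ≤ closure ((fun a => ⁅x, a⁆) '' (A : Set S)) ⊔ A ∧
      ((∃ a ∈ A, ⁅x, a⁆ ∉ A) → A ⊓ D < A' ⊓ D) := by
  classical
  set M : Subgroup S := closure ((fun a => ⁅x, a⁆) '' (A : Set S)) with hM
  have hMD : M ≤ D := (closure_le _).mpr (by rintro _ ⟨a, ha, rfl⟩; exact hxA a ha)
  set C : Subgroup S := A ⊓ centralizer (M : Set S) with hC
  have hgen : ∀ a ∈ A, ⁅x, a⁆ ∈ M := fun a ha => subset_closure ⟨a, ha, rfl⟩
  have hInfM : A ⊓ D ≤ centralizer (M : Set S) := fun c hc =>
    mem_centralizer_iff.mpr fun m hm => comm_of_isMulCommutative hD (hMD hm) hc.2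
  have hcom : IsMulCommutative (M ⊔ C : Subgroup S) := by
    rw [← closure_eq (M : Subgroup S), ← closure_eq C, ← Subgroup.closure_union]
    refine isMulCommutative_closure ?_
    rintro u (hu | hu) v (hv | hv)
    · exact comm_of_isMulCommutative hD (hMD hu) (hMD hv)
    · exact mem_centralizer_iff.mp hv.2 u hu
    · exact (mem_centralizer_iff.mp hu.2 v hv).symm
    · exact comm_of_isMulCommutative hA hu.1 hv.1
  refine ⟨M ⊔ C, hcom, ?_, le_inf (le_trans (le_inf inf_le_left hInfM) le_sup_right) inf_le_right,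
    sup_le_sup le_rfl inf_le_left, ?_⟩
  · -- the map `a ↦ [x, a]` separates cosets of `C`
    have sep : ∀ a ∈ A, ∀ b ∈ A, (⁅x, b⁆)⁻¹ * ⁅x, a⁆ ∈ A → b⁻¹ * a ∈ C := by
      intro a ha b hb hab
      set u := b⁻¹ * a with hu
      have huA : u ∈ A := mul_mem (inv_mem hb) ha
      have hc : ⁅x, u⁆ = b⁻¹ * ((⁅x, b⁆)⁻¹ * ⁅x, a⁆) * b := by
        rw [hu]; simp only [commutatorElement_def]; group
      have hcA : ⁅x, u⁆ ∈ A := by rw [hc]; exact mul_mem (mul_mem (inv_mem hb) hab) hb
      refine ⟨huA, ?_⟩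
      show u ∈ centralizer (M : Set S)
      rw [hM, centralizer_closure, mem_centralizer_iff]
      rintro _ ⟨w, hw, rfl⟩
      -- `x u x⁻¹ = c u` with `c ∈ A ⊓ D`
      set c := ⁅x, u⁆ with hcdef
      have h1 : c * u * (x * w * x⁻¹) = (x * w * x⁻¹) * (c * u) := by
        have : x * u * x⁻¹ = c * u := by rw [hcdef, commutatorElement_def]; group
        rw [← this]
        have := congrArg (fun z => x * z * x⁻¹) (comm_of_isMulCommutative hA huA hw)
        simpa [mul_assoc] using this
      have h2 : c * (x * w * x⁻¹) = (x * w * x⁻¹) * c := by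
        have e : x * w * x⁻¹ = ⁅x, w⁆ * w := by rw [commutatorElement_def]; group
        rw [e, ← mul_assoc, comm_of_isMulCommutative hD (hxA u huA) (hxA w hw), mul_assoc,
          comm_of_isMulCommutative hA hcA hw, ← mul_assoc]
      have h3 : u * (x * w * x⁻¹) = (x * w * x⁻¹) * u := by
        apply mul_left_cancel (a := c)
        rw [← mul_assoc, h1, ← mul_assoc, ← h2, mul_assoc]
      have e : ⁅x, w⁆ = (x * w * x⁻¹) * w⁻¹ := by rw [commutatorElement_def]
      show ⁅x, w⁆ * u = u * ⁅x, w⁆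
      rw [e]
      have h4 := comm_of_isMulCommutative hA huA (inv_mem hw)
      calc x * w * x⁻¹ * w⁻¹ * u = x * w * x⁻¹ * (u * w⁻¹) := by rw [h4]; simp [mul_assoc]
        _ = u * (x * w * x⁻¹ * w⁻¹) := by rw [← mul_assoc, ← h3]; simp [mul_assoc]
    have e1 : C.relIndex A ≤ (C.subgroupOf M).index := by
      rw [relIndex, index, index]
      let f : A → (M ⧸ C.subgroupOf M) := fun a => QuotientGroup.mk ⟨⁅x, (a : S)⁆, hgen a a.2⟩
      refine Nat.card_le_card_of_injective (fun q => f q.out) ?_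
      intro q r hqr
      rw [← QuotientGroup.out_eq' q, ← QuotientGroup.out_eq' r, QuotientGroup.eq]
      simp only [f, QuotientGroup.eq, mem_subgroupOf, Subgroup.coe_mul, Subgroup.coe_inv] at hqr ⊢
      exact sep _ r.out.2 _ q.out.2 hqr.1
    have hCA : Nat.card C * C.relIndex A = Nat.card A := by
      rw [← relIndex_bot_left, ← relIndex_bot_left, relIndex_mul_relIndex _ _ _ bot_le inf_le_left]
    have hCS : Nat.card C * C.relIndex (M ⊔ C) = Nat.card (M ⊔ C : Subgroup S) := by
      rw [← relIndex_bot_left, ← relIndex_bot_left, relIndex_mul_relIndex _ _ _ bot_le le_sup_right]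
    rw [← hCA, ← hCS]
    refine Nat.mul_le_mul_left _ (le_trans e1 ?_)
    exact relIndex_le_of_le_right le_sup_left index_ne_zero_of_finite
  · rintro ⟨a, ha, hnot⟩
    refine lt_of_le_of_ne (le_inf (le_trans (le_inf inf_le_left hInfM) le_sup_right) inf_le_right) ?_
    intro h
    exact hnot (h.ge ⟨mem_sup_left (hgen a ha), hxA a ha⟩).1

/-- `O_p(G)` lies in every Sylow subgroup. -/
theorem pCore_le_sylow {G : Type*} [Group G] [Finite G] {p : ℕ} [Fact p.Prime] (P : Sylow p G) :
    pCore p G ≤ (P : Subgroup G) := by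
  refine sSup_le ?_
  rintro N ⟨hN, hp⟩
  obtain ⟨Q, hQ⟩ := hp.exists_le_sylow
  obtain ⟨g, rfl⟩ := MulAction.exists_smul_eq G Q P
  intro n hn
  rw [Sylow.coe_subgroup_smul, mem_pointwise_smul_iff_inv_smul_mem]
  exact hQ (by simpa using hN.conj_mem n hn g⁻¹)

end Cfsg.Agent.DStar
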